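import Groth.Agent.OneDimLib.Comm
import Groth.Agent.Comodule.StableLocus
import Groth.Agent.Comodule.MultType

/-! A connected group all of whose points are semisimple is commutative. -/

set_option autoImplicit false
set_option backward.isDefEq.respectTransparency false
universe u v

open TensorProduct WithConv
open Groth.Agent.Comodule Groth.Agent.OneDimLib

noncomputable section

namespace Groth.Agent.SsTorus

variable {k : Type u} [Field k] [IsAlgClosed k] {A : Type v} [CommRing A] [HopfAlgebra k A] [Algebra.FiniteType k A]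

local notation "Γ₀" => WithConv (A →ₐ[k] k)

omit [IsAlgClosed k] [Algebra.FiniteType k A] in
theorem coeff_map_charpoly {n : Type*} [Fintype n] [DecidableEq n] (M : Matrix n n A) (σ : A →ₐ[k] k) (i : ℕ) :
    σ (M.charpoly.coeff i) = (M.map σ).charpoly.coeff i :=
  (Polynomial.coeff_map (f := σ.toRingHom) (p := M.charpoly) i).symm.trans
    (congrArg (fun P => Polynomial.coeff P i) (Matrix.charpoly_map M σ.toRingHom).symm)

omit [IsAlgClosed k] in
/-- Class functions with finite fibre over the unit. -/
theorem exists_class_functions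
    (hss : ∀ (g : A →ₐ[k] k) (V : Type v) [AddCommGroup V] [Module k V] [HopfRep.Comod k A V],
      Module.Finite k V → Module.End.IsSemisimple (HopfRep.Comod.act k A V g)) :
    ∃ c : ℕ → A, (Set.range c).Finite ∧
      (∀ (σ χ : Γ₀) (i : ℕ), (χ * σ * ptInv χ).ofConv (c i) = σ.ofConv (c i)) ∧
      ∀ σ : Γ₀, (∀ i, σ.ofConv (c i) = Coalgebra.counit (R := k) (c i)) → σ = 1 := by
  classical
  obtain ⟨s, hs⟩ := (Algebra.FiniteType.out (R := k) (A := A))
  let W : Submodule k A := (Submodule.span (WithConv (A →ₗ[k] k)) (↑s : Set A)).restrictScalars k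
  have hW : HopfRep.IsSubcomod (k := k) (A := A) W := isSubcomod_restrictScalars _
  letI := subComod W hW
  haveI : Module.Finite k W := finite_span_of_finite s.finite_toSet
  let b := Module.finBasis k W
  let M : Matrix (Fin (Module.finrank k W)) (Fin (Module.finrank k W)) A :=
    fun i j => lcon (b.coord i) (HopfRep.Comod.coact (k := k) (A := A) (b j))
  have key : ∀ (χ : A →ₐ[k] k) (φ : W →ₗ[k] k) (z : W ⊗[k] A), χ (lcon φ z) = φ (rcon χ.toLinearMap z) := by
    intro χ φ z
    induction z with
    | zero => simp
    | add p q hp hq => simp only [map_add, hp, hq]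
    | tmul p q => simp [mul_comm]
  let ρ : Γ₀ →* Module.End k W :=
    { toFun := fun σ => dact σ.ofConv.toLinearMap
      map_one' := LinearMap.ext fun v => by
        rw [Module.End.one_apply]
        refine Eq.trans (congrArg (fun f => dact f v) ?_) (dact_one (C := A) v)
        refine LinearMap.ext fun a => ?_
        simp [AlgHom.convOne_def, LinearMap.convOne_def]
      map_mul' := fun σ τ => LinearMap.ext fun v => by
        rw [Module.End.mul_apply, ← dact_mul]
        refine congrArg (fun f => dact f v) (LinearMap.ext fun a => ?_)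
        simp only [AlgHom.toLinearMap_apply, AlgHom.convMul_apply, LinearMap.convMul_apply, WithConv.ofConv_toConv]
        induction Coalgebra.comul (R := k) a with
        | zero => simp
        | add p q hp hq => simp only [map_add, hp, hq]
        | tmul p q => simp }
  have hM : ∀ σ : Γ₀, M.map σ.ofConv = LinearMap.toMatrix b b (ρ σ) := fun σ => by
    ext i j
    rw [Matrix.map_apply, LinearMap.toMatrix_apply]
    exact key σ.ofConv _ _
  have hcoef : ∀ (σ : Γ₀) i, σ.ofConv (M.charpoly.coeff i) = (ρ σ).charpoly.coeff i := fun σ i => by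
    rw [coeff_map_charpoly, hM, LinearMap.charpoly_toMatrix]
  refine ⟨fun i => M.charpoly.coeff i, ?_, fun σ χ i => ?_, fun σ hσ => ?_⟩
  · refine ((Set.finite_Iic M.charpoly.natDegree).image (fun i => M.charpoly.coeff i)).insert (0 : A) |>.subset ?_
    rintro _ ⟨i, rfl⟩
    by_cases hi : i ≤ M.charpoly.natDegree
    · exact Set.mem_insert_of_mem _ ⟨i, hi, rfl⟩
    · exact Set.mem_insert_iff.mpr (Or.inl (Polynomial.coeff_eq_zero_of_natDegree_lt (not_le.mp hi)))
  · show (χ * σ * ptInv χ).ofConv (M.charpoly.coeff i) = σ.ofConv (M.charpoly.coeff i)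
    rw [hcoef, hcoef]
    refine congrArg (fun P : Polynomial k => P.coeff i) ?_
    refine (LinearMap.charpoly_toMatrix _ b).symm.trans (Eq.trans ?_ (LinearMap.charpoly_toMatrix (ρ σ) b))
    rw [map_mul ρ, map_mul ρ, LinearMap.toMatrix_mul, LinearMap.toMatrix_mul]
    rw [Matrix.charpoly_mul_comm, ← Matrix.mul_assoc, ← LinearMap.toMatrix_mul, ← map_mul ρ, ptInv_mul, map_one ρ,
      LinearMap.toMatrix_one, Matrix.one_mul]
  · have hp : (ρ σ).charpoly = (Polynomial.X - 1) ^ Module.finrank k W := by
      rw [← LinearMap.charpoly_one (R := k) (M := W), ← map_one ρ]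
      refine Polynomial.ext fun i => ?_
      rw [← hcoef σ i, ← hcoef 1 i, AlgHom.convOne_apply]
      exact hσ i
    have hnil : IsNilpotent (ρ σ - 1) := by
      refine ⟨Module.finrank k W, ?_⟩
      have h2 := LinearMap.aeval_self_charpoly (ρ σ)
      rw [hp] at h2
      simp only [map_pow, map_sub, Polynomial.aeval_X, map_one] at h2
      exact h2
    have hsemi : Module.End.IsSemisimple (ρ σ - 1) := by
      have h1 : Module.End.IsSemisimple (ρ σ) := hss σ.ofConv W inferInstance
      rw [← map_one (algebraMap k (Module.End k W))]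
      exact Module.End.isSemisimple_sub_algebraMap_iff.mpr h1
    have h1 : ρ σ = 1 := sub_eq_zero.mp (Module.End.eq_zero_of_isNilpotent_isSemisimple hnil hsemi)
    refine WithConv.ofConv_injective (AlgHom.ext_of_adjoin_eq_top hs fun a ha => ?_)
    let a' : W := ⟨a, Submodule.subset_span ha⟩
    have h2 : (toConv σ.ofConv.toLinearMap : WithConv (A →ₗ[k] k)) • a' = a' := LinearMap.congr_fun h1 a'
    have h3 := congrArg (fun x : W => Coalgebra.counit (R := k) (x : A)) h2
    have h4 : ((toConv σ.ofConv.toLinearMap : WithConv (A →ₗ[k] k)) • a' : W) =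
        toConv σ.ofConv.toLinearMap • (a' : A) := isComodHom_iff.mp (isComodHom_subtype W hW) _ _
    simp only [h4] at h3
    rw [AlgHom.convOne_apply]
    refine Eq.trans ?_ h3
    rw [smul_def, dact, LinearMap.comp_apply, coact_regular]
    conv_lhs => rw [← lcon_counit_comul (k := k) a]
    exact (eval_lcon' σ.ofConv.toLinearMap (Coalgebra.counit (R := k)) _)

/-- A connected group all of whose points are semisimple has commutative points. -/
theorem pts_comm [IsReduced A] (hconn : ∀ e : A, IsIdempotentElem e → e = 0 ∨ e = 1)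
    (hss : ∀ (g : A →ₐ[k] k) (V : Type v) [AddCommGroup V] [Module k V] [HopfRep.Comod k A V],
      Module.Finite k V → Module.End.IsSemisimple (HopfRep.Comod.act k A V g)) :
    ∀ σ τ : Γ₀, σ * τ = τ * σ := by
  classical
  haveI : IsDomain A := ConnDomain.isDomain_of_connected k hconn
  obtain ⟨c, hcfin, hcinv, hc1⟩ := exists_class_functions hss
  let B : Subalgebra k A := Algebra.adjoin k (Set.range c)
  haveI : Algebra.FiniteType B A := Algebra.FiniteType.of_restrictScalars_finiteType k B A
  have hagree : ∀ σ τ : Γ₀, (∀ i, σ.ofConv (c i) = τ.ofConv (c i)) → ∀ x : B, σ.ofConv x = τ.ofConv x := by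
    intro σ τ h x
    have hle : B ≤ AlgHom.equalizer σ.ofConv τ.ofConv :=
      Algebra.adjoin_le (by rintro _ ⟨i, rfl⟩; exact h i)
    exact hle x.2
  let m : Ideal A := RingHom.ker (Bialgebra.counitAlgHom k A)
  haveI hm : m.IsMaximal := RingHom.ker_isMaximal_of_surjective _ fun r => ⟨algebraMap k A r, by simp⟩
  haveI : IsJacobsonRing A := isJacobsonRing_of_finiteType (A := k)
  haveI : Algebra.QuasiFiniteAt B m := by
    refine StableLocus.quasiFiniteAt_of_minimal m fun q hq hqB hqm => le_antisymm hqm ?_
    rw [← hq.isRadical.radical, Ideal.radical_eq_jacobson]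
    refine le_sInf fun n ⟨hn, hnmax⟩ => ?_
    obtain ⟨φ, hφ⟩ := ConnDomain.exists_pt_of_ne_top (k := k) hnmax.ne_top
    have hφn : n = RingHom.ker φ := hnmax.eq_of_le (RingHom.ker_ne_top _) hφ
    have hφ1 : toConv φ = 1 := hc1 _ fun i => by
      have hmem : (⟨c i - algebraMap k A (Coalgebra.counit (R := k) (c i)),
          sub_mem (Algebra.subset_adjoin (Set.mem_range_self i)) (Subalgebra.algebraMap_mem _ _)⟩ : B) ∈
          m.comap (algebraMap B A) := by
        show Bialgebra.counitAlgHom k A (c i - _) = 0
        rw [map_sub, AlgHom.commutes]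
        exact sub_self _
      rw [← hqB] at hmem
      have h0 : φ (c i - algebraMap k A (Coalgebra.counit (R := k) (c i))) = 0 :=
        RingHom.mem_ker.mp (hφn.le (hn hmem))
      rw [map_sub, AlgHom.commutes, sub_eq_zero] at h0
      exact h0
    have hφe : φ = Bialgebra.counitAlgHom k A := by
      refine AlgHom.ext fun a => ?_
      have := congrArg (fun z : Γ₀ => z.ofConv a) hφ1
      simpa [AlgHom.convOne_apply] using this
    rw [hφn, hφe]
  haveI : (⊥ : Ideal A).IsPrime := Ideal.isPrime_bot
  haveI : Algebra.QuasiFiniteAt B (⊥ : Ideal A) := Algebra.QuasiFiniteAt.of_le (bot_le : ⊥ ≤ m)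
  let L := FractionRing A
  haveI : IsFractionRing A (Localization.AtPrime (⊥ : Ideal A)) := by
    have h : (⊥ : Ideal A).primeCompl = nonZeroDivisors A := by
      ext x
      simp [Ideal.primeCompl, mem_nonZeroDivisors_iff_ne_zero]
    show IsLocalization (nonZeroDivisors A) (Localization.AtPrime (⊥ : Ideal A))
    rw [← h]
    infer_instance
  let e : Localization.AtPrime (⊥ : Ideal A) ≃ₐ[A] L := IsLocalization.algEquiv (nonZeroDivisors A) _ _
  haveI : Algebra.QuasiFinite B L :=
    (Algebra.QuasiFinite.iff_of_algEquiv (e.restrictScalars B)).mp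
      (by
        have hq : Algebra.QuasiFiniteAt B (⊥ : Ideal A) := inferInstance
        convert hq using 1
        all_goals exact Algebra.algebra_ext _ _ fun x => rfl)
  haveI : FaithfulSMul B L := (faithfulSMul_iff_algebraMap_injective B L).mpr (by
    rw [IsScalarTower.algebraMap_eq B A L]
    exact (IsFractionRing.injective A L).comp Subtype.val_injective)
  letI : Algebra (FractionRing B) L := FractionRing.liftAlgebra B L
  haveI : Algebra.QuasiFinite (FractionRing B) L := Algebra.QuasiFinite.of_restrictScalars B (FractionRing B) L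
  haveI : Module.Finite (FractionRing B) L := Module.Finite.of_quasiFinite
  have halg : ∀ a : A, IsAlgebraic B a := fun a => by
    refine (isAlgebraic_algebraMap_iff (A := L) (IsFractionRing.injective A L)).mp ?_
    exact (IsFractionRing.isAlgebraic_iff B (FractionRing B) L).mpr (Algebra.IsAlgebraic.isAlgebraic _)
  obtain ⟨s, hs⟩ := (Algebra.FiniteType.out (R := k) (A := A))
  choose P hP0 hP using halg
  let b : B := ∏ a ∈ s, (P a).leadingCoeff
  have hb : (b : A) ≠ 0 := by
    intro h
    have : b = 0 := Subtype.ext h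
    obtain ⟨a, -, ha⟩ := Finset.prod_eq_zero_iff.mp this
    exact hP0 a (Polynomial.leadingCoeff_eq_zero.mp ha)
  have hcentral : ∀ g : Γ₀, g.ofConv (b : A) ≠ 0 → ∀ χ, χ * g * ptInv χ = g := by
    intro g hg
    let φ : B →+* k := g.ofConv.toRingHom.comp B.val.toRingHom
    have hne : ∀ a ∈ s, (P a).map φ ≠ 0 := by
      intro a ha h
      have hl : φ (P a).leadingCoeff = 0 := by
        have := congrArg (fun Q : Polynomial k => Q.coeff (P a).natDegree) h
        simpa [Polynomial.coeff_map] using this
      apply hg
      show φ b = 0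
      rw [map_prod]
      exact Finset.prod_eq_zero ha hl
    have hfin : (Set.range fun χ : Γ₀ => χ * g * ptInv χ).Finite := by
      let F : Γ₀ → (s → k) := fun τ a => τ.ofConv (a : A)
      have hF : Function.Injective F := fun τ τ' h =>
        WithConv.ofConv_injective (AlgHom.ext_of_adjoin_eq_top hs fun a ha => congrFun h ⟨a, ha⟩)
      refine Set.Finite.of_finite_image (f := F) ?_ hF.injOn
      refine (Set.Finite.pi fun a : s => ((P a).map φ).roots.toFinset.finite_toSet).subset ?_
      rintro _ ⟨_, ⟨χ, rfl⟩, rfl⟩ a -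
      rw [Finset.mem_coe, Multiset.mem_toFinset, Polynomial.mem_roots (hne a a.2), Polynomial.IsRoot.def,
        Polynomial.eval_map]
      have hag : (χ * g * ptInv χ).ofConv.toRingHom.comp (algebraMap B A) = φ :=
        RingHom.ext fun x => hagree _ _ (hcinv g χ) x
      have h0 := congrArg (χ * g * ptInv χ).ofConv.toRingHom (hP (a : A))
      rw [map_zero, Polynomial.aeval_def, Polynomial.hom_eval₂, hag] at h0
      exact h0
    intro χ
    refine WithConv.ofConv_injective (AlgHom.ext fun a => ?_)
    let vals := (hfin.image fun z : Γ₀ => z.ofConv a).toFinset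
    have hprod : ∏ t ∈ vals, (conjMap g a - algebraMap k A t) = 0 := eq_of_pts (k := k) fun σ => by
      rw [map_zero, map_prod]
      refine Finset.prod_eq_zero (i := (σ * g * ptInv σ).ofConv a) ?_ ?_
      · rw [Set.Finite.mem_toFinset]
        exact Set.mem_image_of_mem _ ⟨σ, rfl⟩
      · rw [map_sub, AlgHom.commutes, conjMap_apply]
        exact sub_self _
    obtain ⟨t, -, ht⟩ := Finset.prod_eq_zero_iff.mp hprod
    rw [sub_eq_zero] at ht
    have h1 := conjMap_apply g χ a
    have h2 := conjMap_apply g 1 a
    rw [ht, AlgHom.commutes] at h1 h2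
    rw [← h1, h2, show ptInv (1 : Γ₀) = 1 from (_root_.mul_one _).symm.trans (ptInv_mul 1), _root_.mul_one,
      _root_.one_mul]
  intro σ τ
  have h : ∀ a : A, conjMap τ a = algebraMap k A (τ.ofConv a) := by
    intro a
    refine sub_eq_zero.mp ((mul_eq_zero.mp (eq_of_pts (k := k) (a := (conjMap τ a - algebraMap k A (τ.ofConv a)) * (b : A))
      (b := 0) fun g => ?_)).resolve_right hb)
    rw [map_zero, map_mul, map_sub, AlgHom.commutes, conjMap_apply]
    by_cases hg : g.ofConv (b : A) = 0
    · rw [hg, mul_zero]
    have hcomm : g * τ = τ * g := by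
      have h1 := congrArg (· * τ) (hcentral g hg τ)
      simp only [_root_.mul_assoc, ptInv_mul, _root_.mul_one] at h1
      exact h1.symm
    rw [hcomm, _root_.mul_assoc, mul_ptInv, _root_.mul_one]
    show (τ.ofConv a - τ.ofConv a) * _ = 0
    rw [sub_self, zero_mul]
  have h2 : σ * τ * ptInv σ = τ := WithConv.ofConv_injective (AlgHom.ext fun a => by
    rw [← conjMap_apply, h, AlgHom.commutes]
    rfl)
  have h3 := congrArg (· * σ) h2
  simp only [_root_.mul_assoc, ptInv_mul, _root_.mul_one] at h3
  exact h3

end Groth.Agent.SsTorus
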